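import Mathlib
import Cfsg.Prelude.Def_Local
import Cfsg.Prelude.Def_Characters
import Cfsg.Prelude.Def_Blocks

/-!
# S4979: the core situation with a non-abelian simple top (helper37)

`Core2 p q K N φ`: `H` finite perfect, `K` its largest proper normal subgroup, `H / K` simple non-abelian of
order divisible by `p`, `p ∤ |K|`; `N ≤ Z(H)` is the kernel of the irreducible action of `H` on the elementary
abelian `q`-group `V`, `φ` a faithful linear character of `N`, `N ≠ 1`; every vector is fixed by a Sylow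
`p`-subgroup of `H` (`P1`) and all irreducible characters over `φ` of all stabilizers `H_v` have degree prime
to `p` (`P2`).
-/

set_option autoImplicit false

open Cfsg

namespace Cfsg.Agent.H37.NX

/-- The core situation with a non-abelian simple top. -/
structure Core2 (p q : ℕ) {H V : Type*} [Group H] [Finite H] [AddCommGroup V] [Finite V]
    [DistribMulAction H V] (K N : Subgroup H) (φ : N →* ℂˣ) : Prop where
  odd : p ≠ 2
  ne : p ≠ q
  perf : commutator H = ⊤
  nK : K.Normal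
  Kt : K ≠ ⊤
  maxK : ∀ M : Subgroup H, M.Normal → M ≠ ⊤ → M ≤ K
  simp : IsSimpleGroup (H ⧸ K)
  na : ¬ IsMulCommutative (H ⧸ K)
  pK : ¬ p ∣ Nat.card K
  pS : p ∣ Nat.card (H ⧸ K)
  qS : ¬ q ∣ Nat.card (H ⧸ K)
  qs : IsPSolvable q H
  cen : N ≤ Subgroup.center H
  NK : N ≤ K
  qN : ¬ q ∣ Nat.card N
  Nne : N ≠ ⊥
  inj : Function.Injective φ
  exp : ∀ v : V, q • v = 0
  nt : Nontrivial V
  ker : ∀ h : H, (∀ v : V, h • v = v) ↔ h ∈ N
  irr : ∀ W : AddSubgroup V, (∀ h : H, ∀ w ∈ W, h • w ∈ W) → W = ⊥ ∨ W = ⊤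
  P1 : ∀ v : V, ¬ p ∣ (MulAction.stabilizer H v).index
  P2 : ∀ (v : V) (χ : ↥(MulAction.stabilizer H v) → ℂ),
    IsIrrCharacter ↥(MulAction.stabilizer H v) χ →
    (∀ n (hn : n ∈ N) (hn' : n ∈ MulAction.stabilizer H v), χ ⟨n, hn'⟩ = χ 1 * φ ⟨n, hn⟩) →
    ¬ p ∣ charDegree χ

end Cfsg.Agent.H37.NX
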