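import Mathlib
import Cfsg.Agent.H37.NW.TThree

/-!
# S4979: the inductive statement and the centralising Sylow subgroup (no `p`-solvability)
-/

set_option autoImplicit false
set_option linter.style.haveILetI false
set_option linter.unusedSectionVars false

open Cfsg

namespace Cfsg.Agent.H37.NX

open Cfsg.Agent.Characters.Core Cfsg.Agent.Characters.Clifford Cfsg.Agent.H672
open Cfsg.Agent.H586.GW
open Cfsg.Agent.H37.NW (relP_up relP_subgroupOf le_centralizer_of_coprime)
open scoped commutatorElement

universe u

/-- The theorem for an invariant character of the `q'`-core of index `n`. -/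
def T1 (p q n : ℕ) : Prop :=
  ∀ {G : Type u} [Group G] [Finite G] (N : Subgroup G) [N.Normal] (θ : N → ℂ),
    IsIrrCharacter N θ → inertia N θ = ⊤ → IsPSolvable q G →
      pPrimeCore q G = N → N.index = n → RelP p N.subtype θ → ¬ p ∣ n

variable {p q : ℕ}

/-- Some Sylow `p`-subgroup centralises every normal `q`-subgroup. -/
theorem exists_sylow_centralizer [hp : Fact p.Prime] [hq : Fact q.Prime] {n : ℕ}
    (h1 : ∀ k ≤ n, T1.{u} p q k) (m : ℕ) : m ≤ n → ∀ {G : Type u} [Group G] [Finite G]
    (N : Subgroup G) [N.Normal] (θ : N → ℂ), IsIrrCharacter N θ →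
      IsPSolvable q G → ¬ q ∣ Nat.card N → N.index = m → RelP p N.subtype θ →
      ∀ U : Subgroup G, U.Normal → IsPGroup q U →
      ∃ P : Sylow p G, (P : Subgroup G) ≤ Subgroup.centralizer (U : Set G) := by
  induction m using Nat.strong_induction_on with
  | _ m ih =>
  intro hmn G _ _ N _ θ hθ hqs hNq hidx hrel U hU hUq
  classical
  set E := pPrimeCore q G with hE
  have hEq : ¬ q ∣ Nat.card E := fun h => hq.out.one_lt.ne' (Nat.dvd_one.1 (by
    have := Nat.dvd_gcd h (dvd_refl q)
    rwa [(Cfsg.Agent.Lib.Cores.pPrimeCore_coprime (G := G) q : (Nat.card E).Coprime q)] at this))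
  have hNE : N ≤ E := Cfsg.Agent.Lib.Cores.le_pPrimeCore inferInstance
    ((Nat.Prime.coprime_iff_not_dvd hq.out).2 hNq).symm
  have hNU : N ≤ Subgroup.centralizer (U : Set G) :=
    le_centralizer_of_coprime inferInstance hU hUq hNq
  by_cases hEN : E = N
  · by_cases hinv : inertia N θ = ⊤
    · have h2 : ¬ p ∣ N.index := by
        rw [hidx]
        exact h1 m hmn N θ hθ hinv hqs hEN hidx hrel
      obtain ⟨P⟩ : Nonempty (Sylow p G) := inferInstance
      exact ⟨P, (mem_of_not_dvd_index inferInstance h2 P.isPGroup').trans hNU⟩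
    · set T := inertia N θ with hT
      have hTp : ¬ p ∣ T.index := hrel.not_dvd_index N hθ
      have hNT : N ≤ T := le_inertia (isIrr_isClassFunction hθ)
      have hUT : U ≤ T := by
        intro u hu
        rw [hT, mem_inertia_iff]
        intro x
        congr 1
        apply Subtype.ext
        have := Subgroup.mem_centralizer_iff.1 (hNU x.2) u hu
        show u * (x : G) * u⁻¹ = x
        rw [this, mul_inv_cancel_right]
      have hlt : (N.subgroupOf T).index < m := by
        rw [← hidx]
        have h4 : N.relIndex T * T.index = N.index := Subgroup.relIndex_mul_index hNT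
        have h5 : T.index ≠ 1 := fun h => hinv (Subgroup.index_eq_one.1 h)
        have h6 : T.index ≠ 0 := Subgroup.index_ne_zero_of_finite
        have h7 : N.relIndex T ≠ 0 := Subgroup.index_ne_zero_of_finite
        change N.relIndex T < N.index
        rw [← h4]
        have h8 : 2 ≤ T.index := by omega
        nlinarith [Nat.pos_of_ne_zero h7]
      have hrT := relP_subgroupOf N T hNT (hrel.inertia N hθ T hT hNT)
      obtain ⟨P, hP⟩ := ih _ hlt (hlt.le.trans hmn) (N.subgroupOf T) _
        (isIrr_comp (Subgroup.subgroupOfEquivOfLe hNT).toMonoidHom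
          (Subgroup.subgroupOfEquivOfLe hNT).surjective hθ)
        (Cfsg.Agent.Lib.PSolvable.IsPSolvable_of_injective q hqs T.subtype T.subtype_injective)
        (by rw [Nat.card_congr (Subgroup.subgroupOfEquivOfLe hNT).toEquiv]; exact hNq) rfl hrT
        (U.subgroupOf T) inferInstance (hUq.comap_subtype (K := T))
      have h9 : Nat.card ((P : Subgroup T).map T.subtype) = p ^ (Nat.card G).factorization p := by
        rw [Nat.card_congr ((P : Subgroup T).equivMapOfInjective T.subtype T.subtype_injective).toEquiv.symm,
          P.card_eq_multiplicity, ← Subgroup.card_mul_index T,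
          Nat.factorization_mul Nat.card_pos.ne' Subgroup.index_ne_zero_of_finite, Finsupp.add_apply,
          Nat.factorization_eq_zero_of_not_dvd hTp, add_zero]
      refine ⟨Sylow.ofCard _ h9, ?_⟩
      rw [Sylow.coe_ofCard]
      rintro _ ⟨x, hx, rfl⟩
      rw [Subgroup.mem_centralizer_iff]
      intro u hu
      have h10 := Subgroup.mem_centralizer_iff.1 (hP hx) ⟨u, hUT hu⟩ hu
      exact congrArg Subtype.val h10
  · -- go up to the core
    have hlt : E.index < m := by
      rw [← hidx]
      have h4 : N.relIndex E * E.index = N.index := Subgroup.relIndex_mul_index hNE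
      have h5 : N.relIndex E ≠ 1 := fun h => hEN (le_antisymm (Subgroup.relIndex_eq_one.1 h) hNE)
      have h6 : E.index ≠ 0 := Subgroup.index_ne_zero_of_finite
      have h7 : N.relIndex E ≠ 0 := Subgroup.index_ne_zero_of_finite
      rw [← h4]
      have h8 : 2 ≤ N.relIndex E := by omega
      nlinarith [Nat.pos_of_ne_zero h6]
    obtain ⟨ψ, hψ, hov⟩ := exists_over_inj (Subgroup.inclusion hNE)
      (Subgroup.inclusion_injective hNE) hθ
    exact ih _ hlt (hlt.le.trans hmn) E ψ hψ hqs hEq rfl (relP_up N hrel hθ E hNE hψ hov) U hU hUq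

end Cfsg.Agent.H37.NX
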