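import Mathlib
import Cfsg.Agent.H37.NX.TThree
import Cfsg.Agent.H37.NW.Ctx

/-!
# S4979: structure of a minimal counterexample (central case, no `p`-solvability)
-/

set_option autoImplicit false
set_option linter.style.haveILetI false
set_option linter.unusedSectionVars false

open Cfsg

namespace Cfsg.Agent.H37.NX

open Cfsg.Agent.Characters.Core Cfsg.Agent.Characters.Clifford Cfsg.Agent.H672
open Cfsg.Agent.H672.RM (over_lin_iff)
open Cfsg.Agent.H586.GW
open Cfsg.Agent.H37.NW (relP_up relP_subgroupOf le_centralizer_of_coprime inertia_central)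
open scoped commutatorElement

universe u

/-- The minimal counterexample, central case. -/
structure Ctx (p q : ℕ) {G : Type u} [Group G] [Finite G] (Z : Subgroup G) (l : Z →* ℂˣ) :
    Prop where
  ne : p ≠ q
  cen : Z ≤ Subgroup.center G
  inj : Function.Injective l
  qZ : ¬ q ∣ Nat.card Z
  pZ : ¬ p ∣ Nat.card Z
  qs : IsPSolvable q G
  core : pPrimeCore q G = Z
  rel : RelP p Z.subtype (lf l)
  dvd : p ∣ Z.index
  iha : ∀ r : ℕ, r.Prime → p ≠ r → ∀ k < Z.index, T1.{u} p r k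

/-- The minimal counterexample, central case, before the removal of the `p`-part. -/
structure Pre (p q : ℕ) {G : Type u} [Group G] [Finite G] (Z : Subgroup G) (l : Z →* ℂˣ) :
    Prop where
  ne : p ≠ q
  cen : Z ≤ Subgroup.center G
  qZ : ¬ q ∣ Nat.card Z
  qs : IsPSolvable q G
  core : pPrimeCore q G = Z
  rel : RelP p Z.subtype (lf l)
  dvd : p ∣ Z.index
  iha : ∀ r : ℕ, r.Prime → p ≠ r → ∀ k < Z.index, T1.{u} p r k

theorem Ctx.pre {p q : ℕ} {G : Type u} [Group G] [Finite G] {Z : Subgroup G} {l : Z →* ℂˣ}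
    (C : Ctx p q Z l) : Pre p q Z l :=
  ⟨C.ne, C.cen, C.qZ, C.qs, C.core, C.rel, C.dvd, C.iha⟩

variable {p q : ℕ} [hp : Fact p.Prime] [hq : Fact q.Prime] {G : Type u} [Group G] [Finite G]
  {Z : Subgroup G} {l : Z →* ℂˣ}

theorem Ctx.ih (C : Ctx p q Z l) : ∀ k < Z.index, T1.{u} p q k := C.iha q hq.out C.ne

theorem Pre.ih (C : Pre p q Z l) : ∀ k < Z.index, T1.{u} p q k := C.iha q hq.out C.ne

theorem Ctx.zn (C : Ctx p q Z l) : Z.Normal := center_normal Z C.cen

theorem Pre.zn (C : Pre p q Z l) : Z.Normal := center_normal Z C.cen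

theorem Pre.low (C : Pre p q Z l) {M : Subgroup G} (hM : M.Normal) (hZM : Z ≤ M) (hMt : M ≠ ⊤) :
    ¬ p ∣ Z.relIndex M := by
  haveI := C.zn
  have h1 := relP_subgroupOf Z M hZM (C.rel.normal Z (isIrr_lf l) M hZM)
  have hcen : Z.subgroupOf M ≤ Subgroup.center M := by
    intro z hz
    rw [Subgroup.mem_center_iff]
    intro g
    exact Subtype.ext (Subgroup.mem_center_iff.1 (C.cen hz) (g : G))
  refine C.ih _ ?_ (Z.subgroupOf M) _ (isIrr_comp (Subgroup.subgroupOfEquivOfLe hZM).toMonoidHom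
      (Subgroup.subgroupOfEquivOfLe hZM).surjective (isIrr_lf l)) (inertia_central hcen _)
      (Cfsg.Agent.Lib.PSolvable.IsPSolvable_of_injective q C.qs M.subtype M.subtype_injective)
      ?_ rfl h1
  · have h4 : Z.relIndex M * M.index = Z.index := Subgroup.relIndex_mul_index hZM
    have h5 : M.index ≠ 1 := fun h => hMt (Subgroup.index_eq_one.1 h)
    have h6 : M.index ≠ 0 := Subgroup.index_ne_zero_of_finite
    have h7 : Z.relIndex M ≠ 0 := Subgroup.index_ne_zero_of_finite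
    rw [← h4]
    have h8 : 2 ≤ M.index := by omega
    nlinarith [Nat.pos_of_ne_zero h7]
  · have h2 := Cfsg.Agent.Lib.Cores.map_subtype_pPrimeCore q hM
    rw [C.core] at h2
    apply Subgroup.map_injective M.subtype_injective
    rw [h2, Subgroup.subgroupOf_map_subtype, inf_comm]

/-- A maximal normal subgroup above `Z`. -/
theorem Pre.exists_K (C : Pre p q Z l) : ∃ K : Subgroup G, K.Normal ∧ Z ≤ K ∧ K ≠ ⊤ ∧
    (∀ M : Subgroup G, M.Normal → K ≤ M → M = K ∨ M = ⊤) ∧ p ∣ K.index ∧ ¬ p ∣ Z.relIndex K := by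
  classical
  haveI := C.zn
  have hZt : Z ≠ ⊤ := by
    intro h
    have := C.dvd
    rw [h, Subgroup.index_top] at this
    exact hp.out.one_lt.ne' (Nat.dvd_one.1 this)
  obtain ⟨K, ⟨hKn, hZK, hKt⟩, hmax⟩ := WellFounded.has_min (wellFounded_gt (α := Subgroup G))
    {M : Subgroup G | M.Normal ∧ Z ≤ M ∧ M ≠ ⊤} ⟨Z, C.zn, le_rfl, hZt⟩
  have hK1 := C.low hKn hZK hKt
  have hpK : p ∣ K.index := by
    have h4 : Z.relIndex K * K.index = Z.index := Subgroup.relIndex_mul_index hZK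
    have h5 := C.dvd
    rw [← h4] at h5
    exact (hp.out.dvd_mul.1 h5).resolve_left hK1
  refine ⟨K, hKn, hZK, hKt, ?_, hpK, hK1⟩
  intro M hM hKM
  by_contra hcon
  push Not at hcon
  exact hmax M ⟨hM, hZK.trans hKM, hcon.2⟩ (lt_of_le_of_ne hKM hcon.1.symm)

theorem Ctx.low (C : Ctx p q Z l) {M : Subgroup G} (hM : M.Normal) (hZM : Z ≤ M) (hMt : M ≠ ⊤) :
    ¬ p ∣ Z.relIndex M := C.pre.low hM hZM hMt

theorem card_of_relIndex {G : Type*} [Group G] [Finite G] {Z K : Subgroup G} (hZK : Z ≤ K)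
    (hpZ : ¬ p ∣ Nat.card Z) (hK1 : ¬ p ∣ Z.relIndex K) : ¬ p ∣ Nat.card K := by
  have h1 : Nat.card Z * Z.relIndex K = Nat.card K := by
    have := Subgroup.relIndex_mul_relIndex ⊥ Z K bot_le hZK
    rwa [Subgroup.relIndex_bot_left, Subgroup.relIndex_bot_left] at this
  rw [← h1]
  intro h
  exact (hp.out.dvd_mul.1 h).elim hpZ hK1

theorem Ctx.exists_K (C : Ctx p q Z l) : ∃ K : Subgroup G, K.Normal ∧ Z ≤ K ∧ K ≠ ⊤ ∧
    (∀ M : Subgroup G, M.Normal → K ≤ M → M = K ∨ M = ⊤) ∧ p ∣ K.index ∧ ¬ p ∣ Nat.card K := by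
  obtain ⟨K, hKn, hZK, hi, h2, h3, hK1⟩ := C.pre.exists_K
  exact ⟨K, hKn, hZK, hi, h2, h3, card_of_relIndex hZK C.pZ hK1⟩

end Cfsg.Agent.H37.NX
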