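import Mathlib
import Cfsg.Agent.H37.NX.CoreOne
import Cfsg.Agent.H37.NW.TOne
import Cfsg.Agent.CharDeep.Twist

/-!
# S4979: the theorem for invariant characters from the non-existence of the core situation
-/

set_option autoImplicit false
set_option linter.style.haveILetI false
set_option linter.unusedSectionVars false

open Cfsg

namespace Cfsg.Agent.H37.NX

open Cfsg.Agent.Characters.Core Cfsg.Agent.Characters.Clifford Cfsg.Agent.H672
open Cfsg.Agent.H672.RM (over_lin_iff)
open Cfsg.Agent.H586.GW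
open Cfsg.Agent.H37.NW (relP_up relP_subgroupOf le_centralizer_of_coprime inertia_central relP_twist
  psolvable_transfer core_transfer exists_triple')
open scoped commutatorElement

universe u

variable {p q : ℕ} [hp : Fact p.Prime] [hq : Fact q.Prime] {G : Type u} [Group G] [Finite G]
  {Z : Subgroup G} {l : Z →* ℂˣ}

/-- The `p`-part of the central character extends: take the determinant of a character of degree
prime to `p` over it. -/
theorem exists_nu (hcen : Z ≤ Subgroup.center G) (hrel : RelP p Z.subtype (lf l)) :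
    ∃ ν : G →* ℂˣ, ∃ b : ℕ, ¬ p ∣ b ∧ ∀ z : Z, (l z * (ν z)⁻¹) ^ b = 1 := by
  classical
  obtain ⟨χ, hχ, hov⟩ := exists_over_inj Z.subtype Z.subtype_injective (isIrr_lf l)
  have hd := hrel χ hχ hov
  rw [charDegree_lf, mul_one] at hd
  rw [over_lin_iff Z.subtype (fun z => hcen z.2) hχ] at hov
  obtain ⟨n, ρ, hirr, hρ⟩ := hχ
  have hpos := Cfsg.Agent.Characters.Central.finrank_pos_of_irr ρ hirr
  rw [Module.finrank_fin_fun] at hpos
  have h1 : χ 1 = n := by
    rw [← hρ, Representation.char_one, Module.finrank_fin_fun]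
  have hdeg : charDegree χ = n := by
    rw [Blocks.Basic.charDegree_def, h1]
    simp
  rw [hdeg] at hd
  have hn0 : (n : ℂ) ≠ 0 := by exact_mod_cast hpos.ne'
  have hsc : ∀ z : Z, ρ (z : G) = (l z : ℂ) • (1 : Module.End ℂ (_root_.Fin n → ℂ)) := by
    intro z
    obtain ⟨c, hc⟩ := Cfsg.Agent.Characters.Central.exists_smul_of_comm ρ hirr (ρ z) (fun g => by
      rw [← map_mul, ← map_mul, (Subgroup.mem_center_iff.1 (hcen z.2) g)])
    have h2 : χ (z : G) = c * n := by
      rw [← hρ]
      change LinearMap.trace ℂ _ (ρ z) = _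
      rw [hc, map_smul, LinearMap.trace_one, Module.finrank_fin_fun]
      rfl
    have h3 := hov z
    change χ (z : G) = _ at h3
    rw [h1, h2, mul_comm] at h3
    rw [hc, mul_left_cancel₀ hn0 h3]
  let ν0 : G →* ℂˣ := Cfsg.Agent.CharDeep.Twist.detHom ρ
  have hν0 : ∀ z : Z, ν0 z = l z ^ n := by
    intro z
    apply Units.ext
    rw [Cfsg.Agent.CharDeep.Twist.detHom_apply, hsc, LinearMap.det_smul, map_one, mul_one,
      Module.finrank_fin_fun, Units.val_pow_eq_pow_val]
  obtain ⟨a, M, b, hab, hb, -, -⟩ := exists_exp (p := p) (Nat.card Z) Nat.card_pos.ne'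
  have hlcard : ∀ z, l z ^ (p ^ a * b) = 1 := by
    intro z
    rw [← hab, ← map_pow, pow_card_eq_one', map_one]
  obtain ⟨c, hc⟩ : ∃ c, n * c ≡ 1 [MOD p ^ a] := by
    have hcop : Nat.Coprime n (p ^ a) :=
      (Nat.Coprime.pow_left _ ((Nat.Prime.coprime_iff_not_dvd hp.out).2 hd)).symm
    rcases Nat.eq_zero_or_pos a with h0 | h0
    · exact ⟨0, by rw [h0, pow_zero]; exact Nat.modEq_one⟩
    · obtain ⟨c, -, hc⟩ := Nat.exists_mul_mod_eq_one_of_coprime hcop
        (Nat.one_lt_pow h0.ne' hp.out.one_lt)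
      refine ⟨c, ?_⟩
      rw [Nat.ModEq, hc, Nat.mod_eq_of_lt (Nat.one_lt_pow h0.ne' hp.out.one_lt)]
  refine ⟨ν0 ^ c, b, hb, fun z => ?_⟩
  have h4 : (ν0 ^ c) (z : G) = l z ^ (n * c) := by
    rw [MonoidHom.pow_apply, hν0, pow_mul]
  rw [h4, mul_pow, inv_pow, mul_inv_eq_one, ← pow_mul]
  refine pow_eq_pow_iff_modEq.2 (Nat.ModEq.of_dvd (orderOf_dvd_of_pow_eq_one (hlcard z)) ?_)
  have h5 := (Nat.ModEq.mul_right' b hc).symm
  rwa [one_mul] at h5

theorem exists_ctx (C : Pre p q Z l) {b : ℕ} (hb : ¬ p ∣ b) (hl : ∀ z, l z ^ b = 1) :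
    ∃ (Q : Type u) (_ : Group Q) (_ : Finite Q) (Z' : Subgroup Q) (l' : Z' →* ℂˣ),
      Ctx p q Z' l' := by
  classical
  have hZ := C.cen
  haveI := C.zn
  let K : Subgroup G := l.ker.map Z.subtype
  have hKZ : K ≤ Z := by
    rintro _ ⟨z, -, rfl⟩
    exact z.2
  haveI hK : K.Normal := center_normal K (hKZ.trans hZ)
  let mk : G →* G ⧸ K := QuotientGroup.mk' K
  have hmk : Function.Surjective mk := QuotientGroup.mk'_surjective K
  have hkq : mk.ker = K := QuotientGroup.ker_mk' K
  let Z' : Subgroup (G ⧸ K) := Z.map mk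
  have hcomap : Z'.comap mk = Z := by
    rw [Subgroup.comap_map_eq, hkq, sup_eq_left.2 hKZ]
  have hZ' : Z' ≤ Subgroup.center (G ⧸ K) := by
    rintro _ ⟨z, hz, rfl⟩
    rw [Subgroup.mem_center_iff]
    intro x
    obtain ⟨x, rfl⟩ := hmk x
    rw [← map_mul, ← map_mul, Subgroup.mem_center_iff.1 (hZ hz) x]
  let f : Z →* Z' := (mk.comp Z.subtype).codRestrict Z' (fun z => ⟨z, z.2, rfl⟩)
  have hf : Function.Surjective f := by
    rintro ⟨_, z, hz, rfl⟩
    exact ⟨⟨z, hz⟩, rfl⟩
  have hkf : f.ker ≤ l.ker := by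
    intro z hz
    have h1 : mk (z : G) = 1 := congrArg Subtype.val (MonoidHom.mem_ker.1 hz)
    have h2 : (z : G) ∈ K := by rw [← hkq]; exact MonoidHom.mem_ker.2 h1
    obtain ⟨w, hw, hwz⟩ := h2
    have : w = z := Subtype.ext hwz
    rwa [← this]
  let l' : Z' →* ℂˣ := f.liftOfSurjective hf ⟨l, hkf⟩
  have hl' : ∀ z, l' (f z) = l z := fun z => MonoidHom.liftOfRightInverse_comp_apply _ _ _ _ _
  have hinj : Function.Injective l' := by
    rw [injective_iff_map_eq_one]
    intro z hz
    obtain ⟨z, rfl⟩ := hf z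
    rw [hl'] at hz
    apply Subtype.ext
    change mk (z : G) = 1
    rw [← MonoidHom.mem_ker, hkq]
    exact ⟨z, hz, rfl⟩
  have hidx : Z'.index = Z.index := Subgroup.index_map_eq Z hmk (by rw [hkq]; exact hKZ)
  refine ⟨G ⧸ K, inferInstance, inferInstance, Z', l', C.ne, hZ', hinj, ?_, ?_,
    Cfsg.Agent.Lib.PSolvable.IsPSolvable_of_surjective q C.qs mk hmk, ?_, ?_, ?_, ?_⟩
  · intro h
    exact C.qZ (h.trans (Subgroup.card_map_dvd Z mk))
  · intro h
    obtain ⟨z, hz⟩ := exists_prime_orderOf_dvd_card' (G := Z') p h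
    have h1 : z ^ p = 1 := orderOf_dvd_iff_pow_eq_one.1 (dvd_of_eq hz)
    have h2 : l' z ^ p = 1 := by rw [← map_pow, h1, map_one]
    have h3 : l' z ^ b = 1 := by
      obtain ⟨y, rfl⟩ := hf z
      rw [hl']
      exact hl y
    have h4 := pow_gcd_eq_one.2 ⟨h2, h3⟩
    rw [((Nat.Prime.coprime_iff_not_dvd hp.out).2 hb).gcd_eq_one, pow_one] at h4
    have h5 : z = 1 := hinj (by rw [h4, map_one])
    rw [h5, orderOf_one] at hz
    exact hp.out.one_lt.ne hz
  · -- the core
    apply le_antisymm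
    · have hE : (pPrimeCore q (G ⧸ K)).Normal := Cfsg.Agent.Lib.Cores.pPrimeCore_normal q
      have hEc : (Nat.card (pPrimeCore q (G ⧸ K))).Coprime q :=
        Cfsg.Agent.Lib.Cores.pPrimeCore_coprime (G := G ⧸ K) q
      have h1 : (pPrimeCore q (G ⧸ K)).comap mk ≤ pPrimeCore q G := by
        refine Cfsg.Agent.Lib.Cores.le_pPrimeCore (hE.comap mk) ?_
        have h2 : Nat.card ((pPrimeCore q (G ⧸ K)).comap mk) =
            Nat.card K * Nat.card (pPrimeCore q (G ⧸ K)) := by
          have hKE : K ≤ (pPrimeCore q (G ⧸ K)).comap mk := by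
            intro x hx
            show mk x ∈ pPrimeCore q (G ⧸ K)
            have : mk x = 1 := (QuotientGroup.eq_one_iff x).2 hx
            rw [this]
            exact one_mem _
          have h3 := Subgroup.relIndex_mul_relIndex ⊥ K _ bot_le hKE
          rw [Subgroup.relIndex_bot_left, Subgroup.relIndex_bot_left] at h3
          rw [← h3]
          congr 1
          have h4 : (⊥ : Subgroup (G ⧸ K)).comap mk = K := by
            rw [MonoidHom.comap_bot, hkq]
          have h5 := Subgroup.relIndex_comap (⊥ : Subgroup (G ⧸ K)) mk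
            ((pPrimeCore q (G ⧸ K)).comap mk)
          rw [h4, Subgroup.map_comap_eq_self_of_surjective hmk, Subgroup.relIndex_bot_left] at h5
          exact h5
        rw [h2]
        refine Nat.Coprime.mul_left ?_ hEc
        refine Nat.Coprime.coprime_dvd_left (Subgroup.card_dvd_of_le hKZ) ?_
        exact ((Nat.Prime.coprime_iff_not_dvd hq.out).2 C.qZ).symm
      rw [C.core] at h1
      rw [← Subgroup.map_comap_eq_self_of_surjective hmk (pPrimeCore q (G ⧸ K))]
      exact Subgroup.map_mono h1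
    · haveI : Z'.Normal := center_normal Z' hZ'
      refine Cfsg.Agent.Lib.Cores.le_pPrimeCore inferInstance ?_
      refine Nat.Coprime.coprime_dvd_left (Subgroup.card_map_dvd Z mk) ?_
      exact ((Nat.Prime.coprime_iff_not_dvd hq.out).2 C.qZ).symm
  · intro χ hχ hov hd
    have h1 : IsIrrCharacter G (χ ∘ mk) := isIrr_comp mk hmk hχ
    refine C.rel (χ ∘ mk) h1 ?_ ?_
    · rw [over_lin_iff Z.subtype (fun z => hZ z.2) h1]
      rw [over_lin_iff Z'.subtype (fun z => hZ' z.2) hχ] at hov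
      intro z
      have h2 := hov (f z)
      rw [hl'] at h2
      change χ (mk z) = χ (mk 1) * _
      rw [map_one]
      exact h2
    · rw [charDegree_comp_one, charDegree_lf]
      rwa [charDegree_lf] at hd
  · rw [hidx]; exact C.dvd
  · rw [hidx]; exact C.iha


end Cfsg.Agent.H37.NX
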