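import Mathlib
import Cfsg.Agent.PermutationGroups.PrimeDegree

/-!
# A primitive group of degree 8 and order 1344 is 3-transitive (helper37)
-/

set_option autoImplicit false
set_option linter.style.haveILetI false

namespace Cfsg.Agent.H37.NX

open MulAction

theorem three_trans_eight {G : Subgroup (Equiv.Perm (Fin 8))} (hprim : IsPreprimitive G (Fin 8))
    (hc : Nat.card G = 1344) : IsMultiplyPretransitive G (Fin 8) 3 := by
  classical
  haveI := hprim.toIsPretransitive
  rw [show (3 : ℕ) = Nat.succ 2 from rfl,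
    SubMulAction.ofStabilizer.isMultiplyPretransitive (a := (0 : Fin 8))]
  let S := stabilizer G (0 : Fin 8)
  let Ω := SubMulAction.ofStabilizer G (0 : Fin 8)
  change IsMultiplyPretransitive S Ω 2
  have hS : Nat.card S = 168 := by
    have h1 := MulAction.index_stabilizer_of_transitive G (0 : Fin 8)
    have h2 := Subgroup.card_mul_index (stabilizer G (0 : Fin 8))
    rw [h1, hc, Nat.card_fin] at h2
    change Nat.card S * 8 = 1344 at h2
    omega
  have hΩ : Nat.card Ω = 7 := by
    have h1 := SubMulAction.nat_card_ofStabilizer_eq G (0 : Fin 8)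
    rw [Nat.card_fin] at h1
    exact h1
  letI : Fintype Ω := Fintype.ofFinite _
  have hΩ' : Fintype.card Ω = 7 := by rw [← Nat.card_eq_fintype_card]; exact hΩ
  let f : S →* Equiv.Perm Ω := MulAction.toPermHom S Ω
  have hf : Function.Injective f := by
    rw [injective_iff_map_eq_one]
    intro s hs
    apply Subtype.ext
    apply Subtype.ext
    ext i : 1
    by_cases hi : i = 0
    · rw [hi]
      exact s.2
    · have h1 := congrArg (fun σ : Equiv.Perm Ω => ((σ ⟨i, hi⟩ : Ω) : Fin 8)) hs
      exact h1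
  have hG' : Nat.card f.range = 168 := by
    rw [← hS]
    exact (Nat.card_congr (MonoidHom.ofInjective hf).toEquiv).symm
  -- transitivity
  have h7 : 7 ∣ Nat.card f.range := by rw [hG']; decide
  haveI : Fact (Nat.Prime 7) := ⟨by decide⟩
  obtain ⟨x, hx⟩ := exists_prime_orderOf_dvd_card' (G := f.range) 7 h7
  have hx7 : (x : Equiv.Perm Ω) ^ 7 = 1 := by
    have : x ^ 7 = 1 := orderOf_dvd_iff_pow_eq_one.1 (dvd_of_eq hx)
    exact congrArg Subtype.val this
  have hx1 : (x : Equiv.Perm Ω) ≠ 1 := by
    intro h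
    have : x = 1 := Subtype.ext h
    rw [this, orderOf_one] at hx
    exact absurd hx (by decide)
  obtain ⟨b, hb⟩ : ∃ b, (x : Equiv.Perm Ω) b ≠ b := by
    by_contra hcon
    push Not at hcon
    exact hx1 (Equiv.ext hcon)
  have hord : orderOf (x : Equiv.Perm Ω) = 7 := by rw [Subgroup.orderOf_coe, hx]
  have hcyc : (x : Equiv.Perm Ω).IsCycle ∧ (x : Equiv.Perm Ω).support = Finset.univ := by
    obtain ⟨m, hm⟩ := Equiv.Perm.cycleType_prime_order (σ := (x : Equiv.Perm Ω)) (by
      rw [hord]; decide)
    have h1 : (x : Equiv.Perm Ω).support.card = (m + 1) * 7 := by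
      rw [← Equiv.Perm.sum_cycleType, hm, hord, Multiset.sum_replicate, smul_eq_mul]
    have h2 : (x : Equiv.Perm Ω).support.card ≤ 7 :=
      (Finset.card_le_univ _).trans hΩ'.le
    have h3 : m = 0 := by omega
    subst h3
    constructor
    · rw [← Equiv.Perm.card_cycleType_eq_one, hm]
      rfl
    · apply Finset.eq_univ_of_card
      rw [h1, hΩ']
  haveI : IsPretransitive f.range Ω := by
    constructor
    intro a c
    have ha : (x : Equiv.Perm Ω) a ≠ a := by
      rw [← Equiv.Perm.mem_support, hcyc.2]; exact Finset.mem_univ _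
    have hc' : (x : Equiv.Perm Ω) c ≠ c := by
      rw [← Equiv.Perm.mem_support, hcyc.2]; exact Finset.mem_univ _
    obtain ⟨k, hk⟩ := hcyc.1.sameCycle ha hc'
    exact ⟨x ^ k, hk⟩
  by_contra h2
  have h2' : ¬ IsMultiplyPretransitive f.range Ω 2 := by
    intro h
    apply h2
    constructor
    intro u v
    obtain ⟨⟨_, s, rfl⟩, hg⟩ := MulAction.exists_smul_eq f.range u v
    refine ⟨s, ?_⟩
    ext i
    have h3 := congrArg (fun w : Fin 2 ↪ Ω => (w i : Ω)) hg
    exact congrArg (fun y : Ω => ((y : Fin 8) : ℕ)) h3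
  obtain ⟨e, he⟩ := Cfsg.Agent.PermutationGroups.PrimeDegree.affine_of_not_two_transitive hΩ' f.range h2'
  -- counting
  choose! A B hAB using he
  let F : f.range → ZMod 7 × ZMod 7 := fun g => (A g, B g)
  have hF : Function.Injective F := by
    intro g h hgh
    apply Subtype.ext
    ext a : 1
    apply e.injective
    have h1 : A (g : Equiv.Perm Ω) = A (h : Equiv.Perm Ω) := congrArg Prod.fst hgh
    have h2 : B (g : Equiv.Perm Ω) = B (h : Equiv.Perm Ω) := congrArg Prod.snd hgh
    rw [hAB g g.2, hAB h h.2, h1, h2]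
  have h3 := Nat.card_le_card_of_injective F hF
  rw [hG', Nat.card_prod, Nat.card_zmod] at h3
  omega

end Cfsg.Agent.H37.NX
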