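import Mathlib
import Cfsg.Agent.H586.GW.ImpA
import Cfsg.Agent.H37.NX.Defs
import Cfsg.Agent.H37.NX.Perm

/-!
# S4979, layer (I): the action on the blocks of a system of imprimitivity (helper37)

`Core2.imp`: the block permutation group is the alternating group (with kernel `K`) or `AGL(3,2)`, the block
stabilizers are transitive on the nonzero vectors of the blocks, and no subgroup of index prime to `p`
preserves a set of `p` blocks and fixes one of them.
-/

set_option autoImplicit false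
set_option linter.style.haveILetI false
set_option linter.unusedSectionVars false
set_option linter.unusedFintypeInType false

open scoped Pointwise

namespace Cfsg.Agent.H37.NX

open MulAction Cfsg.Agent.H511.Wt Cfsg.Agent.H586.GW

/-- The action on the blocks `B` in a numbering. -/
structure ImpShape (p : ℕ) {H : Type*} [Group H] (K : Subgroup H) {B : Type*} [MulAction H B] {n : ℕ}
    (e : B ≃ Fin n) (ρ : H →* Equiv.Perm (Fin n)) : Prop where
  equiv : ∀ h b, ρ h (e b) = e (h • b)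
  shape : (5 ≤ n ∧ 2 * p ≤ n + 1 ∧
      (∃ a s : ℕ, 1 ≤ s ∧ 1 ≤ a ∧ a ≤ p - 1 ∧ n + 1 = a * p ^ s ∧ ¬ (a = 1 ∧ s = 1)) ∧
      ρ.range = alternatingGroup (Fin n) ∧ ρ.ker = K) ∨
    (n = 8 ∧ p = 3 ∧ IsPreprimitive ρ.range (Fin n) ∧ Nat.card ρ.range = 1344 ∧ ρ.ker ≤ K)

section shape
variable {H : Type*} [Group H] [Finite H] {B : Type*} [Finite B] [MulAction H B] {p : ℕ} [hp : Fact p.Prime]
  {K : Subgroup H}

/-- The shape from S3513. -/
theorem exists_shape (h3513 : S3513Stmt) (hp2 : p ≠ 2) (hprim : IsPreprimitive H B) [Nontrivial B]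
    (hperf : commutator H = ⊤) (hKn : K.Normal) (hKt : K ≠ ⊤)
    (hmax : ∀ M : Subgroup H, M.Normal → M ≠ ⊤ → M ≤ K) (hpS : p ∣ K.index)
    (h2 : ∀ Δ : Set B, ∃ S : Subgroup H, ¬ p ∣ S.index ∧ ∀ g ∈ S, ∀ b, g • b ∈ Δ ↔ b ∈ Δ) :
    ∃ (n : ℕ) (e : B ≃ Fin n) (ρ : H →* Equiv.Perm (Fin n)), ImpShape p K e ρ := by
  classical
  obtain ⟨n, ⟨e⟩⟩ := Finite.exists_equiv_fin B
  let φ : H →* Equiv.Perm (Fin n) := (e.permCongrHom.toMonoidHom).comp (MulAction.toPermHom H B)
  have hφ : ∀ h i, φ h i = e (h • e.symm i) := fun h i => rfl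
  have hφB : ∀ h b, φ h (e b) = e (h • b) := fun h b => by rw [hφ, e.symm_apply_apply]
  -- the kernel
  have hkt : φ.ker ≠ ⊤ := by
    intro h
    obtain ⟨a, b, hab⟩ := exists_pair_ne B
    obtain ⟨g, hg⟩ := MulAction.exists_smul_eq H a b
    have h1 : φ g = 1 := by
      rw [← MonoidHom.mem_ker, h]
      exact Subgroup.mem_top g
    have h3 := hφB g a
    rw [h1, hg] at h3
    exact hab (e.injective h3)
  have hkerφ : φ.ker ≤ K := hmax _ inferInstance hkt
  let Γ : Subgroup (Equiv.Perm (Fin n)) := φ.range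
  have hprimΓ : IsPreprimitive Γ (Fin n) := by
    let f : B →ₑ[(φ.rangeRestrict : H → Γ)] Fin n :=
      { toFun := e
        map_smul' := fun h b => (hφB h b).symm }
    exact IsPreprimitive.of_surjective (f := f) e.surjective
  have hdiv : p ∣ Nat.card Γ := by
    have h1 : Nat.card Γ = φ.ker.index := (Subgroup.index_ker φ).symm
    rw [h1]
    exact hpS.trans (Subgroup.index_dvd_of_le hkerφ)
  have horb : ∀ s : Set (Fin n), ¬ p ∣ Nat.card {t : Set (Fin n) // ∃ h ∈ Γ, t = h '' s} := by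
    intro s
    obtain ⟨S, hSp, hg⟩ := h2 (e ⁻¹' s)
    let A : MulAction H (Set (Fin n)) :=
      { smul := fun h t => φ h '' t
        one_smul := fun t => by
          change φ 1 '' t = t
          rw [map_one]; simp
        mul_smul := fun a b t => by
          change φ (a * b) '' t = φ a '' (φ b '' t)
          rw [map_mul, Set.image_image]; rfl }
    have hsm : ∀ (h : H) (t : Set (Fin n)), h • t = φ h '' t := fun _ _ => rfl
    have e1 : {t : Set (Fin n) // ∃ h ∈ Γ, t = h '' s} ≃ MulAction.orbit H s := by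
      refine Equiv.subtypeEquivRight fun t => ?_
      constructor
      · rintro ⟨_, ⟨h, rfl⟩, rfl⟩
        exact ⟨h, rfl⟩
      · rintro ⟨h, rfl⟩
        exact ⟨φ h, ⟨h, rfl⟩, rfl⟩
    rw [Nat.card_congr e1, Nat.card_coe_set_eq, ← MulAction.index_stabilizer]
    have hle : S ≤ MulAction.stabilizer H s := by
      intro g hgS
      have hgs := hg g hgS
      rw [MulAction.mem_stabilizer_iff, hsm]
      ext i
      simp only [Set.mem_image]
      constructor
      · rintro ⟨j, hj, rfl⟩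
        have h5 := (hgs (e.symm j)).2 (by simpa using hj)
        simpa [hφ] using h5
      · intro hi
        refine ⟨e (g⁻¹ • e.symm i), ?_, ?_⟩
        · have h5 := (hgs (g⁻¹ • e.symm i)).1 (by simpa using hi)
          simpa using h5
        · rw [hφB, smul_inv_smul, e.apply_symm_apply]
    intro h
    exact hSp (h.trans (Subgroup.index_dvd_of_le hle))
  refine ⟨n, e, φ, hφB, ?_⟩
  have hΓperf : ⁅Γ, Γ⁆ = Γ := by
    have h7 : Γ = (⊤ : Subgroup H).map φ := MonoidHom.range_eq_map φ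
    rw [h7, ← Subgroup.map_commutator, ← commutator_def, hperf]
  rcases h3513 n Γ hprimΓ p hp.out hdiv horb with ⟨hA, a, s, hs, ha, hap, hn, hne, -⟩ | ⟨hn, hp3, hc⟩ | ⟨-, hp2', -⟩
  · left
    have hp3 : 3 ≤ p := by
      have := hp.out.two_le
      omega
    have hnp : 2 * p ≤ n + 1 ∧ 5 ≤ n := by
      rcases Nat.lt_or_ge 1 s with h1 | h1
      · have h5 : p ^ 2 ≤ p ^ s := Nat.pow_le_pow_right hp.out.pos h1
        have h6 : p ^ s ≤ a * p ^ s := Nat.le_mul_of_pos_left _ ha
        have h7 : p ^ 2 = p * p := sq p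
        have h8 : 3 * p ≤ p * p := Nat.mul_le_mul_right _ hp3
        omega
      · have h5 : s = 1 := by omega
        subst h5
        have h6 : 2 ≤ a := by
          by_contra hcon
          exact hne ⟨by omega, rfl⟩
        rw [pow_one] at hn
        have h7 : 2 * p ≤ a * p := Nat.mul_le_mul_right _ h6
        omega
    have h5n : 5 ≤ Nat.card (Fin n) := by rw [Nat.card_fin]; exact hnp.2
    have hΓA : Γ = alternatingGroup (Fin n) := by
      refine le_antisymm ?_ hA
      rw [← hΓperf, Subgroup.commutator_le]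
      intro x _ y _
      rw [Equiv.Perm.mem_alternatingGroup, map_commutatorElement, commutatorElement_eq_one_iff_mul_comm]
      exact mul_comm _ _
    refine ⟨hnp.2, hnp.1, ⟨a, s, hs, ha, hap, hn, hne⟩, hΓA, le_antisymm hkerφ ?_⟩
    -- `K` is the kernel
    haveI : IsSimpleGroup (alternatingGroup (Fin n)) := alternatingGroup.isSimpleGroup h5n
    have h1 : ((K.map φ).subgroupOf (alternatingGroup (Fin n))).Normal := by
      constructor
      rintro ⟨x, hx⟩ hxK ⟨y, hy⟩
      obtain ⟨k, hk, hkx⟩ := hxK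
      rw [← hΓA] at hy
      obtain ⟨h, rfl⟩ := hy
      refine ⟨h * k * h⁻¹, hKn.conj_mem k hk h, ?_⟩
      rw [map_mul, map_mul, map_inv, hkx]
      rfl
    rcases h1.eq_bot_or_eq_top with h3 | h3
    · rw [Subgroup.subgroupOf_eq_bot] at h3
      have h4 : K.map φ ≤ alternatingGroup (Fin n) := by
        rw [← hΓA]
        exact Subgroup.map_le_range _ _
      have h5 : K.map φ = ⊥ := by
        rw [eq_bot_iff]
        intro x hx
        exact (Subgroup.disjoint_def.1 h3) hx (h4 hx)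
      intro k hk
      rw [MonoidHom.mem_ker]
      have h6 : φ k ∈ K.map φ := ⟨k, hk, rfl⟩
      rw [h5, Subgroup.mem_bot] at h6
      exact h6
    · exfalso
      rw [Subgroup.subgroupOf_eq_top] at h3
      apply hKt
      have h4 : (K.map φ).comap φ = ⊤ := by
        rw [eq_top_iff]
        intro x _
        apply h3
        rw [← hΓA]
        exact ⟨x, rfl⟩
      rwa [Subgroup.comap_map_eq, sup_eq_left.2 hkerφ] at h4
  · right
    refine ⟨hn, hp3, hprimΓ, ?_, hkerφ⟩
    rcases hc with hc | ⟨-, hs⟩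
    · exact hc
    · exfalso
      -- a perfect solvable group
      have h3 : Γ = ⊥ := by
        have h4 : commutator Γ = ⊤ := by
          rw [eq_top_iff, commutator_def]
          rintro ⟨x, hx⟩ _
          have h5 : x ∈ ⁅Γ, Γ⁆ := by rw [hΓperf]; exact hx
          have h6 : (⁅(⊤ : Subgroup Γ), (⊤ : Subgroup Γ)⁆).map Γ.subtype = ⁅Γ, Γ⁆ := by
            rw [Subgroup.map_commutator, ← MonoidHom.range_eq_map, Subgroup.range_subtype]
          rw [← h6] at h5
          obtain ⟨y, hy, hyx⟩ := h5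
          rwa [show (⟨x, hx⟩ : Γ) = y from Subtype.ext hyx.symm]
        by_contra hne
        haveI : Nontrivial Γ := (Subgroup.nontrivial_iff_ne_bot Γ).2 hne
        exact (Group.IsSolvable.commutator_lt_top_of_nontrivial Γ).ne h4
      rw [show Γ = φ.range from rfl, MonoidHom.range_eq_bot_iff] at h3
      apply hkt
      rw [h3, MonoidHom.ker_one]
  · exact absurd hp2' hp2

/-- (I1): no subgroup of index prime to `p` preserves a set of `p` blocks and fixes one of them. -/
theorem ImpShape.no_label {n : ℕ} {e : B ≃ Fin n} {ρ : H →* Equiv.Perm (Fin n)}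
    (I : ImpShape p K e ρ) (hp2 : p ≠ 2) {S : Subgroup H} (hS : ¬ p ∣ S.index) (Γ : Set B)
    (hΓ : Nat.card Γ = p) {i₀ : B} (hi : i₀ ∈ Γ) (h1 : ∀ g ∈ S, g • i₀ = i₀)
    (h2 : ∀ g ∈ S, ∀ b ∈ Γ, g • b ∈ Γ) : False := by
  classical
  obtain ⟨P, hP⟩ := exists_sylow_le hS
  have hfixΓ : ∀ x ∈ P, ∀ b ∈ Γ, x • b = b := by
    intro x hx b hb
    by_cases hb0 : b = i₀
    · rw [hb0]; exact h1 x (hP hx)
    · obtain ⟨k, hk⟩ := P.isPGroup' ⟨x, hx⟩
      have hk' : x ^ p ^ k = 1 := congrArg Subtype.val hk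
      refine fix_of_card_lt (p := p) (k := k) (fun b => by rw [hk', one_smul]) (Γ \ {i₀})
        (Set.toFinite _) ?_ ?_ b ⟨hb, hb0⟩
      · rintro t ⟨ht, ht0⟩
        refine ⟨h2 x (hP hx) t ht, ?_⟩
        rw [Set.mem_singleton_iff]
        intro h
        apply ht0
        rw [Set.mem_singleton_iff]
        have h3 := h1 x (hP hx)
        rw [← h3] at h
        exact MulAction.injective x h
      · rw [Nat.card_coe_set_eq] at hΓ ⊢
        have h3 := Set.ncard_sdiff_singleton_add_one hi (Set.toFinite Γ)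
        omega
  let Γ' : Finset (Fin n) := (Set.toFinite (e '' Γ)).toFinset
  have hΓ' : Γ'.card = p := by
    rw [← hΓ, Nat.card_coe_set_eq, ← Set.ncard_image_of_injective Γ e.injective,
      Set.ncard_eq_toFinset_card _ (Set.toFinite _)]
  have hfix : ∀ x ∈ P, ∀ i ∈ Γ', ρ x i = i := by
    intro x hx i hi'
    rw [Set.Finite.mem_toFinset] at hi'
    obtain ⟨b, hb, rfl⟩ := hi'
    rw [I.equiv, hfixΓ x hx b hb]
  rcases I.shape with ⟨-, -, -, hA, -⟩ | ⟨hn, hp3, hprim, hc, -⟩
  · exact no_fix_alt ρ hA hp2 P Γ' hΓ' hfix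
  · subst hn
    exact no_fix_agl ρ hprim hc hp3 P Γ' hΓ' hfix

theorem ImpShape.le_card {n : ℕ} {e : B ≃ Fin n} {ρ : H →* Equiv.Perm (Fin n)}
    (I : ImpShape p K e ρ) : p ≤ Nat.card B := by
  have := hp.out.two_le
  rw [Nat.card_congr e, Nat.card_fin]
  rcases I.shape with ⟨-, h, -⟩ | ⟨h, h3, -⟩ <;> omega

end shape

section core
variable {p q : ℕ} [hp : Fact p.Prime] {H V : Type*} [Group H] [Finite H] [AddCommGroup V] [Finite V]
  [DistribMulAction H V] {K N : Subgroup H} {φ : N →* ℂˣ} {M : Subgroup H} {W : H ⧸ M → AddSubgroup V}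

/-- (I0): the shape of the action on the blocks. -/
theorem Core2.imp (h3513 : S3513Stmt) (C : Core2 (V := V) p q K N φ) (hM : IsCoatom M)
    (hW : ∀ (g : H) (i : H ⧸ M), g • W i = W (g • i)) (hind : iSupIndep W) (htop : ⨆ i, W i = ⊤) :
    ∃ (n : ℕ) (e : H ⧸ M ≃ Fin n) (ρ : H →* Equiv.Perm (Fin n)), ImpShape p K e ρ := by
  classical
  haveI := C.nt
  haveI := nontrivial_blocks hM
  haveI : Fintype (H ⧸ M) := Fintype.ofFinite _
  refine exists_shape h3513 C.odd (prim_blocks hM) C.perf C.nK C.Kt C.maxK C.pS ?_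
  intro Δ
  choose w hw hw0 using fun i => exists_ne_zero hW htop i
  let f : H ⧸ M → V := fun i => if i ∈ Δ then w i else 0
  have hf : ∀ i, f i ∈ W i := by
    intro i
    by_cases h : i ∈ Δ
    · simp only [f, if_pos h]; exact hw i
    · simp only [f, if_neg h]; exact (W i).zero_mem
  have hf0 : ∀ i, f i ≠ 0 ↔ i ∈ Δ := by
    intro i
    by_cases h : i ∈ Δ
    · simp only [f, if_pos h]; exact iff_of_true (hw0 i) h
    · simp only [f, if_neg h]; exact iff_of_false (fun h => h rfl) h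
  refine ⟨MulAction.stabilizer H (∑ i, f i), C.P1 _, fun g hgv b => ?_⟩
  rw [← hf0, ← hf0, ← fix_comp hW hind hf hgv b]
  rw [not_iff_not]
  exact smul_eq_zero_iff_eq g

/-- The block stabilizers are transitive on the nonzero vectors of the blocks. -/
theorem Core2.imp_trans (C : Core2 (V := V) p q K N φ)
    (hW : ∀ (g : H) (i : H ⧸ M), g • W i = W (g • i)) (hind : iSupIndep W)
    {n : ℕ} {e : H ⧸ M ≃ Fin n} {ρ : H →* Equiv.Perm (Fin n)} (I : ImpShape p K e ρ) (i₀ : H ⧸ M)
    {a b : V} (ha : a ∈ W i₀) (hb : b ∈ W i₀) (ha0 : a ≠ 0) (hb0 : b ≠ 0) :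
    ∃ m : H, m • i₀ = i₀ ∧ m • a = b := by
  classical
  by_contra hcon
  push Not at hcon
  haveI : Fintype (H ⧸ M) := Fintype.ofFinite _
  -- a set of `p` blocks
  obtain ⟨Γ, hΓsub, hΓ⟩ := Finset.exists_subset_card_eq (s := (Finset.univ : Finset (H ⧸ M)))
    (n := p) (by rw [Finset.card_univ, ← Nat.card_eq_fintype_card]; exact I.le_card)
  obtain ⟨j₀, hj₀⟩ : Γ.Nonempty := by
    rw [← Finset.card_pos, hΓ]; exact hp.out.pos
  choose t ht using fun i => MulAction.exists_smul_eq H i₀ i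
  let f : H ⧸ M → V := fun i => if i = j₀ then t i • b else if i ∈ Γ then t i • a else 0
  have hmem : ∀ i (w : V), w ∈ W i₀ → t i • w ∈ W i := by
    intro i w hw
    have := smul_mem_W hW (g := t i) hw
    rwa [ht] at this
  have hf : ∀ i, f i ∈ W i := by
    intro i
    by_cases h : i = j₀
    · simp only [f, if_pos h]; exact hmem i b hb
    · by_cases h' : i ∈ Γ
      · simp only [f, if_neg h, if_pos h']; exact hmem i a ha
      · simp only [f, if_neg h, if_neg h']; exact (W i).zero_mem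
  have hst : ∀ (g : H) (i : H ⧸ M), ((t (g • i))⁻¹ * g * t i) • i₀ = i₀ := by
    intro g i
    rw [mul_smul, mul_smul, ht, inv_smul_eq_iff, ht]
  have hf0 : ∀ i, f i ≠ 0 ↔ i ∈ Γ := by
    intro i
    by_cases h : i = j₀
    · simp only [f, if_pos h]
      refine iff_of_true ?_ (h ▸ hj₀)
      rw [Ne, smul_eq_zero_iff_eq]
      exact hb0
    · by_cases h' : i ∈ Γ
      · simp only [f, if_neg h, if_pos h']
        refine iff_of_true ?_ h'
        rw [Ne, smul_eq_zero_iff_eq]
        exact ha0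
      · simp only [f, if_neg h, if_neg h']
        exact iff_of_false (fun h => h rfl) h'
  refine I.no_label C.odd (C.P1 (∑ i, f i)) (Γ : Set (H ⧸ M)) (by
    rw [Nat.card_coe_set_eq, Set.ncard_coe_finset, hΓ]) (i₀ := j₀) hj₀ ?_ ?_
  · intro g hg
    have hcomp := fix_comp hW hind hf (MulAction.mem_stabilizer_iff.1 hg)
    by_contra hne
    have h1 := hcomp j₀
    have h2 : g • j₀ ∈ Γ := by
      rw [← hf0, ← h1, Ne, smul_eq_zero_iff_eq]
      exact (hf0 j₀).2 hj₀
    simp only [f, if_true, if_neg hne, if_pos h2] at h1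
    refine hcon ((t (g • j₀))⁻¹ * g * t j₀)⁻¹ ?_ ?_
    · rw [inv_smul_eq_iff, hst]
    · rw [inv_smul_eq_iff, mul_smul, mul_smul, h1, inv_smul_smul]
  · intro g hg b hb'
    have hcomp := fix_comp hW hind hf (MulAction.mem_stabilizer_iff.1 hg)
    rw [Finset.mem_coe] at hb' ⊢
    rw [← hf0, ← hcomp b, Ne, smul_eq_zero_iff_eq]
    exact (hf0 b).2 hb'

end core

end Cfsg.Agent.H37.NX
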